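import Mathlib
import Groth.Prelude.Def_NonAbH2
import Groth.Prelude.Def_TwC
import Groth.Agent.TwConst.Valuative
import Groth.Agent.PrincBundLib.Descends
import Groth.Agent.FpqcDesc.Basic
import Groth.Agent.SmoothSecLib.Meeting

/-!
# Torsors under constant groups over smooth schemes with connected fibres
-/

set_option autoImplicit false
set_option linter.style.haveILetI false

universe u

open CategoryTheory CategoryTheory.Limits MonoidalCategory CartesianMonoidalCategory
  AlgebraicGeometry TopologicalSpace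

noncomputable section

namespace Groth.Agent.ConstTorsTriv

theorem exists_act {S : Scheme.{u}} {G X T : Over S} [GrpObj G] (a : AlgGrp.Action G X)
    (ha : NonAbH1.IsPseudoTorsorSch a) (x y : T ⟶ X) : ∃ g : T ⟶ G, lift g x ≫ a.act = y := by
  haveI : IsIso (lift a.act (snd G X)) := ha
  let w := lift y x ≫ inv (lift a.act (snd G X))
  have hw : w ≫ lift a.act (snd G X) = lift y x := by
    simp only [w, Category.assoc, IsIso.inv_hom_id, Category.comp_id]
  have h1 : w ≫ a.act = y := by simpa using congrArg (· ≫ fst X X) hw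
  have h2 : w ≫ snd G X = x := by simpa using congrArg (· ≫ snd X X) hw
  refine ⟨w ≫ fst G X, ?_⟩
  have : lift (w ≫ fst G X) x = w := by
    refine CartesianMonoidalCategory.hom_ext _ _ ?_ ?_
    · rw [lift_fst]
    · rw [lift_snd]; exact h2.symm
  rw [this, h1]

/-- A section of an étale separated morphism is an open and closed immersion. -/
theorem section_clopen {A B : Scheme.{u}} (π : A ⟶ B) [Etale π] [IsSeparated π] (τ : B ⟶ A)
    (h : τ ≫ π = 𝟙 B) : IsOpenImmersion τ ∧ IsClosed (Set.range τ) := by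
  haveI : Etale (τ ≫ π) := by rw [h]; infer_instance
  haveI : IsClosedImmersion (τ ≫ π) := by rw [h]; infer_instance
  haveI : Etale τ := Etale.of_comp τ π
  haveI : IsClosedImmersion τ := IsClosedImmersion.of_comp τ π
  exact ⟨IsOpenImmersion.of_flat_of_mono τ, τ.isClosedEmbedding.isClosed_range⟩

/-- A point of a constant scheme with values in a connected scheme with one point is constant. -/
theorem exists_const_of_subsingleton {P : Scheme.{u}} (Z : Type u) {T : Over P}
    [Subsingleton T.left] [Nonempty T.left] (g : T ⟶ TwC.const P Z) :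
    ∃ z : Z, g = toUnit T ≫ TwC.pt P Z z := by
  obtain ⟨t⟩ := ‹Nonempty T.left›
  obtain ⟨⟨z, b⟩, hb⟩ := (sigmaMk fun _ : Z => P).surjective (g.left t)
  rw [sigmaMk_mk] at hb
  refine ⟨z, ?_⟩
  have hr : Set.range g.left ⊆ Set.range (Sigma.ι (fun _ : Z => P) z) := by
    rintro _ ⟨t', rfl⟩
    exact ⟨b, hb.trans (congrArg g.left (Subsingleton.elim t t'))⟩
  have hfac := IsOpenImmersion.lift_fac (Sigma.ι (fun _ : Z => P) z) g.left hr
  have hl : IsOpenImmersion.lift (Sigma.ι (fun _ : Z => P) z) g.left hr = T.hom := by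
    have := congrArg (fun m => m ≫ (TwC.const P Z).hom) hfac
    simp only [Category.assoc] at this
    rw [show Sigma.ι (fun _ : Z => P) z ≫ (TwC.const P Z).hom = 𝟙 P from Sigma.ι_desc _ _,
      Category.comp_id] at this
    exact this.trans (Over.w g)
  ext1
  rw [← hfac, hl]
  simp [TwC.pt]

section Main

variable {S P : Scheme.{u}} (p : P ⟶ S) [Smooth p] [QuasiCompact p] [QuasiSeparated p]
  [GeometricallyConnected p] (e : S ⟶ P) (he : e ≫ p = 𝟙 S)
  {Z : Type u} [Group Z] {G : Over P} [GrpObj G] (eG : G ≅ TwC.const P Z)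
  {X : Over P} (a : AlgGrp.Action G X)
  (e' : S ⟶ X.left) (he' : e' ≫ X.hom = e)

set_option backward.isDefEq.respectTransparency false in
omit [Group Z] in
include eG in
theorem etale_separated (ha : NonAbH1.IsTorsorFor Scheme.fppfPrecoverage a) :
    Etale X.hom ∧ IsSeparated X.hom := by
  have hE : NonAbH1.IsTorsorFor Scheme.fpqcPrecoverage a :=
    ⟨ha.1, ha.2.imp fun R hR => ⟨Scheme.fppfPrecoverage_le_fpqcPrecoverage _ hR.1, hR.2⟩⟩
  haveI := Groth.Agent.FpqcDesc.isSeparated_descends.{u}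
  obtain ⟨he, hs⟩ := Groth.Agent.TwConst.etale_separated_const P Z
  haveI : Etale (TwC.const P Z).hom := he
  haveI : IsSeparated (TwC.const P Z).hom := hs
  haveI : IsIso eG.hom.left := inferInstanceAs (IsIso ((Over.forget P).map eG.hom))
  have hGe : Etale G.hom := by rw [← Over.w eG.hom]; infer_instance
  have hGs : IsSeparated G.hom := by rw [← Over.w eG.hom]; infer_instance
  exact ⟨Groth.Agent.PrincBundLib.property_of_torsor @AlgebraicGeometry.Etale a hE hGe,
    Groth.Agent.PrincBundLib.property_of_torsor @IsSeparated a hE hGs⟩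

include he he' eG in
omit [Smooth p] [QuasiCompact p] [QuasiSeparated p] [GeometricallyConnected p] [Group Z] in
theorem exists_pointed_section (ha : NonAbH1.IsPseudoTorsorSch a) (s : S)
    (h : NonAbH1.HasSectionOver X (pullback.fst p (S.fromSpecResidueField s))) :
    ∃ σ : pullback p (S.fromSpecResidueField s) ⟶ X.left,
      σ ≫ X.hom = pullback.fst p (S.fromSpecResidueField s) ∧
      ∃ x, σ x = e' s := by
  obtain ⟨σ₀, hσ₀⟩ := h
  let i := pullback.fst p (S.fromSpecResidueField s)
  let es : Spec (S.residueField s) ⟶ pullback p (S.fromSpecResidueField s) :=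
    pullback.lift (S.fromSpecResidueField s ≫ e) (𝟙 _)
      (by rw [Category.assoc, he, Category.comp_id, Category.id_comp])
  have hes : es ≫ i = S.fromSpecResidueField s ≫ e := pullback.lift_fst _ _ _
  let T : Over P := Over.mk (S.fromSpecResidueField s ≫ e)
  let Ts : Over P := Over.mk i
  let σ₀' : Ts ⟶ X := Over.homMk σ₀ hσ₀
  let es' : T ⟶ Ts := Over.homMk es hes
  let y : T ⟶ X := Over.homMk (S.fromSpecResidueField s ≫ e')
    (show (_ ≫ e') ≫ X.hom = S.fromSpecResidueField s ≫ e by rw [Category.assoc, he'])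
  obtain ⟨g, hg⟩ := exists_act a ha (es' ≫ σ₀') y
  haveI : Subsingleton T.left := inferInstanceAs (Subsingleton (Spec (S.residueField s)))
  haveI : Nonempty T.left := inferInstanceAs (Nonempty (Spec (S.residueField s)))
  obtain ⟨z, hz⟩ := exists_const_of_subsingleton Z (g ≫ eG.hom)
  let c : Ts ⟶ G := toUnit Ts ≫ TwC.pt P Z z ≫ eG.inv
  let σ : Ts ⟶ X := lift c σ₀' ≫ a.act
  have hc : es' ≫ c = g := by
    show es' ≫ toUnit Ts ≫ _ = _
    rw [← Category.assoc, comp_toUnit, ← Category.assoc, ← hz, Category.assoc, eG.hom_inv_id,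
      Category.comp_id]
  have hσ : es' ≫ σ = y := by
    rw [← Category.assoc, comp_lift, hc, hg]
  refine ⟨σ.left, Over.w σ, ?_⟩
  obtain ⟨t, ht⟩ : ∃ t : Spec (S.residueField s), S.fromSpecResidueField s t = s :=
    ⟨IsLocalRing.closedPoint _, Scheme.fromSpecResidueField_apply s _⟩
  refine ⟨es t, ?_⟩
  have := congrArg (fun m : T ⟶ X => m.left t) hσ
  simpa [es', y, ht, T, Ts] using this

omit [QuasiCompact p] [QuasiSeparated p] [Smooth p] in
theorem component_eq_range (s : S) [Etale X.hom] [IsSeparated X.hom]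
    (σ : pullback p (S.fromSpecResidueField s) ⟶ X.left)
    (hσ : σ ≫ X.hom = pullback.fst p (S.fromSpecResidueField s)) (hx : ∃ x, σ x = e' s) :
    connectedComponentIn ((X.hom ≫ p) ⁻¹' {s}) (e' s) = Set.range σ := by
  haveI : ConnectedSpace ↥(pullback p (S.fromSpecResidueField s)) :=
    inferInstanceAs (ConnectedSpace (p.fiber s))
  let i := pullback.fst p (S.fromSpecResidueField s)
  let τ : pullback p (S.fromSpecResidueField s) ⟶ pullback X.hom i :=
    pullback.lift σ (𝟙 _) (by rw [hσ, Category.id_comp])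
  have hτ : τ ≫ pullback.snd X.hom i = 𝟙 _ := pullback.lift_snd _ _ _
  have hτ' : τ ≫ pullback.fst X.hom i = σ := pullback.lift_fst _ _ _
  obtain ⟨hτo, hτc⟩ := section_clopen _ τ hτ
  let j := pullback.fst X.hom i
  have hi : Set.range i = p ⁻¹' {s} := p.range_fiberι s
  have hj : Set.range j = (X.hom ≫ p) ⁻¹' {s} := by
    rw [Scheme.Pullback.range_fst]
    show X.hom ⁻¹' Set.range i = _
    rw [hi]; rfl
  haveI : IsPreimmersion i := inferInstance
  haveI : IsPreimmersion j := inferInstance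
  obtain ⟨x, hx⟩ := hx
  have hmem : e' s ∈ (X.hom ≫ p) ⁻¹' {s} := by
    rw [← hj, ← hx, ← hτ']; exact ⟨τ x, rfl⟩
  refine Set.Subset.antisymm ?_ ?_
  · intro w hw
    have hC : connectedComponentIn ((X.hom ≫ p) ⁻¹' {s}) (e' s) ⊆ Set.range j :=
      hj.symm ▸ connectedComponentIn_subset _ _
    have hpc : _root_.IsPreconnected (j ⁻¹' connectedComponentIn ((X.hom ≫ p) ⁻¹' {s}) (e' s)) := by
      rw [← j.isEmbedding.isInducing.isPreconnected_image, Set.image_preimage_eq_inter_range,
        Set.inter_eq_left.mpr hC]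
      exact isPreconnected_connectedComponentIn
    have hclopen : IsClopen (Set.range τ) := ⟨hτc, hτo.base_open.isOpen_range⟩
    have hjx : j (τ x) = e' s := by
      rw [← hx, ← hτ']; rfl
    have hsub := hpc.subset_isClopen hclopen
      ⟨τ x, by rw [Set.mem_preimage, hjx]; exact mem_connectedComponentIn hmem, ⟨x, rfl⟩⟩
    obtain ⟨r, hr⟩ := hC hw
    obtain ⟨v, hv⟩ := hsub (show r ∈ j ⁻¹' _ by rw [Set.mem_preimage, hr]; exact hw)
    exact ⟨v, by rw [← hτ', ← hr, ← hv]; rfl⟩
  · refine (isPreconnected_range σ.continuous).subset_connectedComponentIn ⟨x, hx⟩ ?_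
    rw [← hj, ← hτ']
    rintro _ ⟨v, rfl⟩
    exact ⟨τ v, rfl⟩

include he he' in
omit [GeometricallyConnected p] in
theorem isOpen_union_components [Etale X.hom] [IsSeparated X.hom]
    (hcpt : ∀ s : S, IsCompact (connectedComponentIn ((X.hom ≫ p) ⁻¹' {s}) (e' s))) :
    IsOpen (⋃ s : S, connectedComponentIn ((X.hom ≫ p) ⁻¹' {s}) (e' s)) := by
  let f := X.hom ≫ p
  have hef : e' ≫ f = 𝟙 S := by rw [← Category.assoc, he', he]
  have hefs : ∀ t : S, f (e' t) = t := fun t => by
    rw [← Scheme.Hom.comp_apply, hef]; rfl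
  refine isOpen_iff_forall_mem_open.mpr fun z hz => ?_
  obtain ⟨s, hzs⟩ := Set.mem_iUnion.mp hz
  obtain ⟨_, ⟨V : S.Opens, hV, rfl⟩, hsV, -⟩ :=
    S.isBasis_affineOpens.exists_subset_of_mem_open (Set.mem_univ s) isOpen_univ
  have hK : IsCompact (connectedComponentIn (f ⁻¹' {s}) (e' s) ∪ e' '' (V : Set S)) :=
    (hcpt s).union (hV.isCompact.image e'.continuous)
  have hKV : connectedComponentIn (f ⁻¹' {s}) (e' s) ∪ e' '' (V : Set S) ⊆ f ⁻¹' (V : Set S) := by
    rintro w (hw | ⟨t, ht, rfl⟩)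
    · have : w ∈ f ⁻¹' {s} := connectedComponentIn_subset _ _ hw
      rw [Set.mem_preimage] at this ⊢
      rw [Set.mem_singleton_iff] at this; rw [this]; exact hsV
    · rw [Set.mem_preimage, hefs]; exact ht
  obtain ⟨W₀, hW₀c, hW₀o, hKW, hWV⟩ :=
    PrespectralSpace.exists_isCompact_and_isOpen_between hK (V.2.preimage f.continuous) hKV
  let W : X.left.Opens := ⟨W₀, hW₀o⟩
  have hle : W ≤ f ⁻¹ᵁ V := hWV
  let fW := f.resLE V W hle
  haveI : IsAffine (V : Scheme.{u}) := hV
  haveI : Smooth X.hom := inferInstance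
  haveI : Smooth f := inferInstance
  haveI : Smooth fW := by
    show Smooth (X.left.homOfLE hle ≫ f ∣_ V)
    infer_instance
  haveI : CompactSpace (W : Scheme.{u}) := isCompact_iff_compactSpace.mp hW₀c
  haveI : QuasiCompact fW := inferInstance
  haveI : QuasiSeparated f := inferInstance
  haveI : QuasiSeparated fW := by
    show QuasiSeparated (X.left.homOfLE hle ≫ f ∣_ V)
    infer_instance
  have heW : Set.range (V.ι ≫ e') ⊆ Set.range W.ι := by
    rw [Scheme.Opens.range_ι]
    rintro _ ⟨t, rfl⟩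
    exact hKW (Or.inr ⟨V.ι t, t.2, rfl⟩)
  let eW : (V : Scheme.{u}) ⟶ (W : Scheme.{u}) := IsOpenImmersion.lift W.ι (V.ι ≫ e') heW
  have heWι : eW ≫ W.ι = V.ι ≫ e' := IsOpenImmersion.lift_fac _ _ _
  have heW' : eW ≫ fW = 𝟙 _ := by
    rw [← cancel_mono V.ι, Category.assoc, Scheme.Hom.resLE_comp_ι, ← Category.assoc, heWι,
      Category.assoc, hef, Category.comp_id, Category.id_comp]
  obtain ⟨U, hU⟩ := Groth.Agent.SmoothSecLib.exists_open_components_meeting fW (𝟙 _) eW heW'
  have hfib : ∀ (w : (W : Scheme.{u})), (fW w).1 = f (W.ι w) := fun w => by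
    have := Scheme.Hom.comp_apply fW V.ι w
    rw [Scheme.Hom.resLE_comp_ι, Scheme.Hom.comp_apply] at this
    exact this.symm
  have heWv : ∀ v : (V : Scheme.{u}), W.ι (eW v) = e' v.1 := fun v => by
    rw [← Scheme.Hom.comp_apply, heWι]; rfl
  refine ⟨W.ι '' (U : Set (W : Scheme.{u})), ?_, W.ι.isOpenEmbedding.isOpenMap _ U.2, ?_⟩
  · rintro _ ⟨w, hw, rfl⟩
    have h1 : w ∈ (U : Set (W : Scheme.{u})) ∩ fW.base ⁻¹' {fW w} := ⟨hw, rfl⟩
    rw [hU] at h1
    obtain ⟨c, ⟨⟨v, rfl⟩, hc⟩, hwc⟩ := Set.mem_iUnion₂.mp h1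
    refine Set.mem_iUnion.mpr ⟨(fW w).1, ?_⟩
    have hv : v = fW w := by
      have : fW (eW v) = fW w := hc
      rw [← Scheme.Hom.comp_apply, heW'] at this
      exact this
    have hpre := (isPreconnected_connectedComponentIn (F := fW.base ⁻¹' {fW w}) (x := eW v)).image
      W.ι W.ι.continuous.continuousOn
    refine hpre.subset_connectedComponentIn (x := e' (fW w).1)
      ⟨eW v, mem_connectedComponentIn hc, by rw [heWv, hv]⟩ ?_ ⟨w, hwc, rfl⟩
    rintro _ ⟨w', hw', rfl⟩
    have : w' ∈ fW.base ⁻¹' {fW w} := connectedComponentIn_subset _ _ hw'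
    replace this : fW w' = fW w := this
    show f (W.ι w') = _
    rw [← hfib, this]
  · have hCW : connectedComponentIn (f ⁻¹' {s}) (e' s) ⊆ Set.range W.ι := by
      rw [Scheme.Opens.range_ι]; exact fun w hw => hKW (Or.inl hw)
    obtain ⟨w, rfl⟩ := hCW hzs
    refine ⟨w, ?_, rfl⟩
    have hpc : _root_.IsPreconnected (W.ι ⁻¹' connectedComponentIn (f ⁻¹' {s}) (e' s)) := by
      rw [← W.ι.isEmbedding.isInducing.isPreconnected_image, Set.image_preimage_eq_inter_range,
        Set.inter_eq_left.mpr hCW]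
      exact isPreconnected_connectedComponentIn
    let v : (V : Scheme.{u}) := ⟨s, hsV⟩
    have hev : eW v ∈ fW.base ⁻¹' {v} := by
      show fW (eW v) = v
      rw [← Scheme.Hom.comp_apply, heW']; rfl
    have hsub : W.ι ⁻¹' connectedComponentIn (f ⁻¹' {s}) (e' s) ⊆
        connectedComponentIn (fW.base ⁻¹' {v}) (eW v) := by
      refine hpc.subset_connectedComponentIn ?_ fun w' hw' => ?_
      · rw [Set.mem_preimage, heWv]
        exact mem_connectedComponentIn (hefs s)
      · have h2 : W.ι w' ∈ f ⁻¹' {s} := connectedComponentIn_subset _ _ hw'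
        exact Subtype.ext ((hfib w').trans h2)
    have : w ∈ (U : Set (W : Scheme.{u})) ∩ fW.base ⁻¹' {v} := by
      rw [hU]
      exact Set.mem_iUnion₂.mpr ⟨eW v, ⟨⟨v, rfl⟩, hev⟩, hsub hzs⟩
    exact this.1

include he he' eG in
omit [Group Z] in
theorem hasSection_of_fibres' (ha : NonAbH1.IsTorsorFor Scheme.fppfPrecoverage a)
    (h : ∀ s : S, NonAbH1.HasSectionOver X (pullback.fst p (S.fromSpecResidueField s)))
    (U₀ : X.left.Opens)
    (hU₀ : (U₀ : Set X.left) = ⋃ s : S, connectedComponentIn ((X.hom ≫ p) ⁻¹' {s}) (e' s)) :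
    ∃ g₀ : P ⟶ X.left, g₀ ≫ X.hom = 𝟙 P ∧ e ≫ g₀ = e' ∧
      ∀ g : P ⟶ X.left, g ≫ X.hom = 𝟙 P → ∀ l : P ⟶ (U₀ : Scheme.{u}), l ≫ U₀.ι = g → g = g₀ := by
  obtain ⟨_, _⟩ := etale_separated eG a ha
  choose σ hσ hσx using fun s => exists_pointed_section p e he eG a e' he' ha.1 s (h s)
  have hC := fun s => component_eq_range p e' s (σ s) (hσ s) (hσx s)
  have hopen := isOpen_union_components p e he e' he' fun s => by
    haveI : CompactSpace ↥(pullback p (S.fromSpecResidueField s)) :=
      inferInstanceAs (CompactSpace (p.fiber s))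
    rw [hC]; exact isCompact_range (σ s).continuous
  let U : X.left.Opens := ⟨_, hopen⟩
  let u := U.ι ≫ X.hom
  have hfibre : ∀ s : S, ∀ w : X.left, w ∈ U → p (X.hom w) = s → w ∈ Set.range (σ s) := by
    intro s w hw hs
    obtain ⟨t, ht⟩ := Set.mem_iUnion.mp hw
    have ht' : w ∈ (X.hom ≫ p) ⁻¹' {t} := connectedComponentIn_subset _ _ ht
    replace ht' : (X.hom ≫ p) w = t := ht'
    rw [← hC]
    rw [Scheme.Hom.comp_apply, hs] at ht'
    subst ht'
    exact ht
  haveI : Surjective u := ⟨fun x => by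
    obtain ⟨c, hc⟩ : x ∈ Set.range (pullback.fst p (S.fromSpecResidueField (p x))) := by
      change x ∈ Set.range (p.fiberι (p x))
      rw [p.range_fiberι]; rfl
    have hm : σ (p x) c ∈ U := Set.mem_iUnion.mpr ⟨p x, by rw [hC]; exact ⟨c, rfl⟩⟩
    refine ⟨⟨_, hm⟩, ?_⟩
    show X.hom (σ (p x) c) = x
    rw [← Scheme.Hom.comp_apply, hσ, hc]⟩
  haveI : UniversallyInjective u := by
    refine ((tfae_universallyInjective u).out 1 0 rfl rfl).mp fun K _ g₁ g₂ hg => ?_
    obtain ⟨t⟩ := (inferInstance : Nonempty (Spec (CommRingCat.of K)))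
    let s := p (u (g₁ t))
    have hall : ∀ g : Spec (CommRingCat.of K) ⟶ (U : Scheme.{u}), g ≫ u = g₁ ≫ u →
        ∃ c : Spec (CommRingCat.of K) ⟶ pullback p (S.fromSpecResidueField s),
          c ≫ σ s = g ≫ U.ι ∧ c ≫ pullback.fst p (S.fromSpecResidueField s) = g₁ ≫ u := by
      intro g hgu
      let i := pullback.fst p (S.fromSpecResidueField s)
      haveI : IsPreimmersion i := inferInstance
      let τ : pullback p (S.fromSpecResidueField s) ⟶ pullback X.hom i :=
        pullback.lift (σ s) (𝟙 _) (by rw [hσ, Category.id_comp])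
      have hτ : τ ≫ pullback.snd X.hom i = 𝟙 _ := pullback.lift_snd _ _ _
      have hτ' : τ ≫ pullback.fst X.hom i = σ s := pullback.lift_fst _ _ _
      haveI := (section_clopen _ τ hτ).1
      have hgt : U.ι (g t) ∈ Set.range (σ s) := by
        refine hfibre s _ (g t).2 ?_
        have := congrArg (fun m => p (m t)) hgu
        simpa [s, u] using this
      obtain ⟨c₀, hc₀⟩ := hgt
      -- lift the point to the fibre of `p`
      have hKs : ∃ cS : Spec (CommRingCat.of K) ⟶ Spec (S.residueField s),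
          cS ≫ S.fromSpecResidueField s = g₁ ≫ u ≫ p := by
        obtain ⟨s', φ, hφ⟩ : ∃ (s' : S) (φ : S.residueField s' ⟶ CommRingCat.of K),
            Spec.map φ ≫ S.fromSpecResidueField s' = g₁ ≫ u ≫ p :=
          ⟨_, _, (S.SpecToEquivOfField K).left_inv (g₁ ≫ u ≫ p)⟩
        have hs' : s' = s := by
          have := congrArg (fun m => m t) hφ
          simpa [s] using this
        subst hs'
        exact ⟨_, hφ⟩
      obtain ⟨cS, hcS⟩ := hKs
      let b : Spec (CommRingCat.of K) ⟶ pullback p (S.fromSpecResidueField s) :=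
        pullback.lift (g₁ ≫ u) cS (by rw [hcS, Category.assoc])
      have hb : b ≫ i = g₁ ≫ u := pullback.lift_fst _ _ _
      let r : Spec (CommRingCat.of K) ⟶ pullback X.hom i :=
        pullback.lift (g ≫ U.ι) b (by rw [hb, ← hgu, Category.assoc])
      have hr : Set.range r ⊆ Set.range τ := by
        rintro _ ⟨t', rfl⟩
        refine ⟨c₀, (pullback.fst X.hom i).isEmbedding.injective ?_⟩
        rw [← Scheme.Hom.comp_apply, hτ', ← Scheme.Hom.comp_apply, pullback.lift_fst, hc₀,
          Subsingleton.elim t' t, Scheme.Hom.comp_apply]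
      refine ⟨IsOpenImmersion.lift τ r hr, ?_, ?_⟩
      · rw [← hτ', ← Category.assoc, IsOpenImmersion.lift_fac, pullback.lift_fst]
      · have : IsOpenImmersion.lift τ r hr = b := by
          rw [← Category.comp_id (IsOpenImmersion.lift τ r hr), ← hτ, ← Category.assoc,
            IsOpenImmersion.lift_fac, pullback.lift_snd]
        rw [this, hb]
    obtain ⟨c₁, h₁, h₁'⟩ := hall g₁ rfl
    obtain ⟨c₂, h₂, h₂'⟩ := hall g₂ hg.symm
    have : c₁ = c₂ := pullback.hom_ext (h₁'.trans h₂'.symm) (by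
      rw [← cancel_mono (S.fromSpecResidueField s), Category.assoc, Category.assoc,
        ← pullback.condition, ← Category.assoc, ← Category.assoc, h₁', h₂'])
    rw [← cancel_mono U.ι, ← h₁, ← h₂, this]
  haveI : Etale u := inferInstance
  haveI : IsOpenImmersion u := by
    haveI : Mono u := by
      rw [← pullback.isIso_diagonal_iff]
      haveI := (UniversallyInjective.iff_diagonal u).mp inferInstance
      exact (isIso_iff_isOpenImmersion_and_surjective _).mpr ⟨inferInstance, inferInstance⟩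
    exact IsOpenImmersion.of_flat_of_mono u
  haveI : IsIso u := (isIso_iff_isOpenImmersion_and_surjective _).mpr ⟨inferInstance, inferInstance⟩
  obtain rfl : U₀ = U := TopologicalSpace.Opens.ext hU₀
  have hu : inv u ≫ U.ι ≫ X.hom = 𝟙 P := IsIso.inv_hom_id u
  refine ⟨inv u ≫ U.ι, by rw [Category.assoc, hu], ?_, fun g hg l hl => ?_⟩
  · have he'U : Set.range e' ⊆ Set.range U.ι := by
      rw [Scheme.Opens.range_ι]
      rintro _ ⟨t, rfl⟩
      refine Set.mem_iUnion.mpr ⟨t, mem_connectedComponentIn ?_⟩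
      show (X.hom ≫ p) (e' t) = t
      rw [← Scheme.Hom.comp_apply, ← Category.assoc, he', he]; rfl
    have h1 := IsOpenImmersion.lift_fac U.ι e' he'U
    have h2 : IsOpenImmersion.lift U.ι e' he'U ≫ u = e := by
      rw [← Category.assoc, h1, he']
    rw [← h2, Category.assoc, IsIso.hom_inv_id_assoc, h1]
  · have h2 : l ≫ u = 𝟙 P := by rw [← Category.assoc, hl, hg]
    rw [← hl, IsIso.eq_inv_comp]
    rw [← Category.assoc, show u ≫ l = 𝟙 _ from by
      rw [← cancel_mono u, Category.assoc, h2, Category.comp_id, Category.id_comp]]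
    exact Category.id_comp _

include he he' eG in
omit [Group Z] in
theorem hasSection_of_fibres (ha : NonAbH1.IsTorsorFor Scheme.fppfPrecoverage a)
    (h : ∀ s : S, NonAbH1.HasSectionOver X (pullback.fst p (S.fromSpecResidueField s))) :
    NonAbH1.HasSectionOver X (𝟙 P) := by
  obtain ⟨_, _⟩ := etale_separated eG a ha
  choose σ hσ hσx using fun s => exists_pointed_section p e he eG a e' he' ha.1 s (h s)
  have hopen := isOpen_union_components p e he e' he' fun s => by
    haveI : CompactSpace ↥(pullback p (S.fromSpecResidueField s)) :=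
      inferInstanceAs (CompactSpace (p.fiber s))
    rw [component_eq_range p e' s (σ s) (hσ s) (hσx s)]
    exact isCompact_range (σ s).continuous
  obtain ⟨g, hg, -⟩ := hasSection_of_fibres' p e he eG a e' he' ha h ⟨_, hopen⟩ rfl
  exact ⟨g, hg⟩

include he he' eG in
omit [Group Z] in
theorem existsUnique_section (ha : NonAbH1.IsTorsorFor Scheme.fppfPrecoverage a)
    (h : NonAbH1.HasSectionOver X (𝟙 P)) :
    ∃! g : P ⟶ X.left, g ≫ X.hom = 𝟙 P ∧ e ≫ g = e' := by
  obtain ⟨_, _⟩ := etale_separated eG a ha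
  have hfib : ∀ s : S, NonAbH1.HasSectionOver X (pullback.fst p (S.fromSpecResidueField s)) :=
    fun s => ⟨pullback.fst p _ ≫ h.choose, by rw [Category.assoc, h.choose_spec, Category.comp_id]⟩
  choose σ hσ hσx using fun s => exists_pointed_section p e he eG a e' he' ha.1 s (hfib s)
  have hC := fun s => component_eq_range p e' s (σ s) (hσ s) (hσx s)
  have hopen := isOpen_union_components p e he e' he' fun s => by
    haveI : CompactSpace ↥(pullback p (S.fromSpecResidueField s)) :=
      inferInstanceAs (CompactSpace (p.fiber s))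
    rw [hC]; exact isCompact_range (σ s).continuous
  let U : X.left.Opens := ⟨_, hopen⟩
  obtain ⟨g₀, hg₀⟩ := hasSection_of_fibres' p e he eG a e' he' ha hfib U rfl
  refine ⟨g₀, ⟨hg₀.1, hg₀.2.1⟩, fun g hg => ?_⟩
  have hgU : ∀ x, g x ∈ U := fun x => by
    refine Set.mem_iUnion.mpr ⟨p x, ?_⟩
    have hsub : g '' (p ⁻¹' {p x}) ⊆ connectedComponentIn ((X.hom ≫ p) ⁻¹' {p x}) (e' (p x)) := by
      refine ((p.isConnected_preimage_singleton (p x)).isPreconnected.image g
        g.continuous.continuousOn).subset_connectedComponentIn ⟨e (p x), ?_, ?_⟩ ?_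
      · show p (e (p x)) = p x
        rw [← Scheme.Hom.comp_apply, he]; rfl
      · rw [← Scheme.Hom.comp_apply, hg.2]
      · rintro _ ⟨y, hy, rfl⟩
        show (X.hom ≫ p) (g y) = p x
        rw [← Scheme.Hom.comp_apply, reassoc_of% hg.1]
        exact hy
    exact hsub ⟨x, rfl, rfl⟩
  have hr : Set.range g ⊆ Set.range U.ι := by
    rw [Scheme.Opens.range_ι]; rintro _ ⟨x, rfl⟩; exact hgU x
  exact hg₀.2.2 g hg.1 (IsOpenImmersion.lift U.ι g hr) (IsOpenImmersion.lift_fac _ _ _)

end Main

end Groth.Agent.ConstTorsTriv
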